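import Mathlib

/-!
Homogeneous components via a scaling variable; divisors of forms are forms; chain rule for linear
substitutions.
-/

open MvPolynomial

namespace GrothLib.MvHomog

variable {σ R : Type*} [CommRing R]

/-- `F(X) ↦ F(tX)` -/
noncomputable def scale : MvPolynomial σ R →ₐ[R] Polynomial (MvPolynomial σ R) :=
  aeval fun i => Polynomial.C (X i) * Polynomial.X

theorem coeff_scale (p : MvPolynomial σ R) (j : ℕ) :
    (scale p).coeff j = homogeneousComponent j p := by
  classical
  induction p using MvPolynomial.induction_on' with
  | monomial d a =>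
    have h : scale (monomial d a) = Polynomial.monomial d.degree (monomial d a) := by
      rw [scale, aeval_monomial, ← Polynomial.C_mul_X_pow_eq_monomial, monomial_eq, map_mul]
      simp only [Finsupp.prod, mul_pow, Finset.prod_mul_distrib, Finset.prod_pow_eq_pow_sum,
        map_prod, map_pow]
      rw [show d.degree = ∑ i ∈ d.support, d i from rfl]
      simp [IsScalarTower.algebraMap_apply R (MvPolynomial σ R) (Polynomial (MvPolynomial σ R))]
      ring
    rw [h, Polynomial.coeff_monomial,
      homogeneousComponent_of_mem (isHomogeneous_monomial a (rfl : d.degree = d.degree))]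
    simp [eq_comm]
  | add p q hp hq => rw [map_add, Polynomial.coeff_add, hp, hq, map_add]

theorem scale_injective : Function.Injective (scale (σ := σ) (R := R)) := by
  intro p q h
  rw [← sum_homogeneousComponent p, ← sum_homogeneousComponent q]
  have hc : ∀ j, homogeneousComponent j p = homogeneousComponent j q := fun j => by
    rw [← coeff_scale, ← coeff_scale, h]
  have hext : ∀ (r : MvPolynomial σ R) (N : ℕ), r.totalDegree < N →
      ∑ i ∈ Finset.range (r.totalDegree + 1), homogeneousComponent i r =
        ∑ i ∈ Finset.range N, homogeneousComponent i r := fun r N hN => by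
    refine Finset.sum_subset (fun i hi => by simp at hi ⊢; omega) fun i _ hi => ?_
    exact homogeneousComponent_eq_zero _ _ (by simp at hi; omega)
  rw [hext p (p.totalDegree + q.totalDegree + 1) (by omega),
    hext q (p.totalDegree + q.totalDegree + 1) (by omega)]
  exact Finset.sum_congr rfl fun i _ => hc i

theorem scale_of_isHomogeneous {p : MvPolynomial σ R} {n : ℕ} (hp : p.IsHomogeneous n) :
    scale p = Polynomial.monomial n p := by
  ext1 j
  rw [coeff_scale, homogeneousComponent_of_mem hp, Polynomial.coeff_monomial]
  simp [eq_comm]

/-- A divisor of a nonzero form is a form. -/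
theorem exists_isHomogeneous_of_dvd [IsDomain R] {p g : MvPolynomial σ R} {n : ℕ}
    (hg : g.IsHomogeneous n) (hg0 : g ≠ 0) (h : p ∣ g) : ∃ m ≤ n, p.IsHomogeneous m := by
  obtain ⟨r, rfl⟩ := h
  obtain ⟨hp0, hr0⟩ := mul_ne_zero_iff.mp hg0
  have hs : scale p * scale r = Polynomial.monomial n (p * r) := by
    rw [← map_mul, scale_of_isHomogeneous hg]
  have hP : scale p ≠ 0 := (map_ne_zero_iff _ scale_injective).mpr hp0
  have hR : scale r ≠ 0 := (map_ne_zero_iff _ scale_injective).mpr hr0
  have h1 := congrArg Polynomial.natDegree hs
  have h2 := congrArg Polynomial.natTrailingDegree hs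
  rw [Polynomial.natDegree_mul hP hR, Polynomial.natDegree_monomial_eq n hg0] at h1
  rw [Polynomial.natTrailingDegree_mul hP hR, Polynomial.natTrailingDegree_monomial hg0] at h2
  have h3 := Polynomial.natTrailingDegree_le_natDegree (scale p)
  have h4 := Polynomial.natTrailingDegree_le_natDegree (scale r)
  refine ⟨(scale p).natDegree, by omega, ?_⟩
  have hzero : ∀ j, j ≠ (scale p).natDegree → homogeneousComponent j p = 0 := by
    intro j hj
    rw [← coeff_scale]
    rcases Nat.lt_or_gt_of_ne hj with hlt | hgt
    · exact Polynomial.coeff_eq_zero_of_lt_natTrailingDegree (by omega)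
    · exact Polynomial.coeff_eq_zero_of_natDegree_lt hgt
  suffices p = homogeneousComponent (scale p).natDegree p by
    have key := homogeneousComponent_isHomogeneous (scale p).natDegree p
    generalize (scale p).natDegree = m at this key
    rwa [← this] at key
  apply scale_injective
  ext1 j
  rw [coeff_scale, coeff_scale]
  rcases eq_or_ne j (scale p).natDegree with rfl | hj
  · rw [homogeneousComponent_of_mem (homogeneousComponent_isHomogeneous _ _), if_pos rfl]
  · rw [hzero j hj, homogeneousComponent_of_mem (homogeneousComponent_isHomogeneous _ _), if_neg hj]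

variable {τ : Type*} [Fintype σ] [DecidableEq σ] [Fintype τ] [DecidableEq τ]

/-- chain rule -/
theorem pderiv_linSubst (A : Matrix σ τ R) (f : MvPolynomial σ R) (j : τ) :
    pderiv j (aeval (fun i => ∑ l, C (A i l) * X l) f) =
      ∑ i, C (A i j) * aeval (fun i => ∑ l, C (A i l) * X l) (pderiv i f) := by
  induction f using MvPolynomial.induction_on with
  | C a => simp
  | add p q hp hq =>
    simp only [map_add, hp, hq, mul_add, Finset.sum_add_distrib]
  | mul_X p s hp =>
    have hs : pderiv j (∑ l, C (A s l) * X l : MvPolynomial τ R) = C (A s j) := by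
      simp [map_sum, pderiv_X, Pi.single_apply, Finset.sum_ite_eq']
    rw [map_mul, aeval_X, pderiv_mul, hp, hs]
    simp only [pderiv_mul, map_add, map_mul, aeval_X, mul_add, Finset.sum_add_distrib, Finset.sum_mul]
    congr 1
    · exact Finset.sum_congr rfl fun i _ => by ring
    · rw [Finset.sum_eq_single s]
      · simp; ring
      · intro i _ hi
        simp [pderiv_X_of_ne (Ne.symm hi)]
      · simp

end GrothLib.MvHomog
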